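import Groth.Agent.H26.LefFEt.Clopen
import Groth.Agent.H26.LefFEt.Hyp
import Groth.Agent.H26.LefPic.Main
import Groth.Prelude.Def_LefX

/-!
# Lefschetz from a presentation of the functions on all thickenings
-/

noncomputable section

set_option autoImplicit false
set_option linter.style.haveILetI false
set_option backward.isDefEq.respectTransparency false
set_option backward.isDefEq.respectTransparency.types false

universe u

open CategoryTheory CategoryTheory.Limits AlgebraicGeometry TopologicalSpace Opposite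
open Groth.Agent Groth.Agent.H23

namespace Groth.Agent.GrLib8.NFlatPunct

/-- The functions on every thickening of `V(𝓙)` are the quotients `A / J ^ (n + 1)`. -/
structure Presented {A : Type u} [CommRing A] (J : Ideal A) {W : Scheme.{u}} (𝓙 : W.IdealSheafData)
    (φ : A →+* Γ(W, ⊤)) : Prop where
  bij : Function.Bijective φ
  surj : ∀ n, Function.Surjective fun a => (𝓙 ^ (n + 1)).subschemeι.app ⊤ (φ a)
  ker : ∀ n a, (𝓙 ^ (n + 1)).subschemeι.app ⊤ (φ a) = 0 ↔ a ∈ J ^ (n + 1)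

variable {A : Type u} [CommRing A] {J : Ideal A} {W : Scheme.{u}} {𝓙 : W.IdealSheafData} {φ : A →+* Γ(W, ⊤)}

theorem app_incl {n : ℕ} (t : Γ(W, ⊤)) :
    (Scheme.IdealSheafData.inclusion (Lef.pow_succ_le 𝓙 n)).app ⊤ ((𝓙 ^ (n + 2)).subschemeι.app ⊤ t) =
      (𝓙 ^ (n + 1)).subschemeι.app ⊤ t := by
  have h := congrArg (fun g : (𝓙 ^ (n + 1)).subscheme ⟶ W => g.appTop t)
    (Scheme.IdealSheafData.inclusion_subschemeι (Lef.pow_succ_le 𝓙 n))
  exact h

theorem quotMap_app_top {T : Scheme.{u}} {I I' : T.IdealSheafData} (h : I ≤ I') (a : Γ(I.subscheme, ⊤)) :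
    (Lef.quotMap h).app ⊤ a = (Scheme.IdealSheafData.inclusion h).app ⊤ a := by
  simp [Lef.quotMap, ClSub.unitToPush]
  rfl

/-- `Hom(O, O) = lim Hom(O, O/J^n)`. -/
theorem Presented.hb [IsAdicComplete J A] (h : Presented J 𝓙 φ) :
    Lef.HomToFormalBijective 𝓙 (Coh.structureModule W) := by
  refine ⟨fun f g hfg => ?_, fun y hy => ?_⟩
  · refine H26.LefIdem.hom_ext_one _ _ ?_
    obtain ⟨a, ha⟩ := h.bij.2 (f.app ⊤ (1 : Γ(W, ⊤)))
    obtain ⟨b, hb⟩ := h.bij.2 (g.app ⊤ (1 : Γ(W, ⊤)))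
    have hab : a - b = 0 := IsHausdorff.haus (inferInstance : IsHausdorff J A) _ fun n => by
      rw [SModEq.zero, smul_eq_mul, Ideal.mul_top]
      refine Ideal.pow_le_pow_right (Nat.le_succ n) ((h.ker n _).1 ?_)
      rw [map_sub, map_sub, sub_eq_zero, ha, hb]
      exact congrArg (fun t => t.app ⊤ (1 : Γ(W, ⊤))) (hfg n)
    exact ha.symm.trans ((congrArg φ (sub_eq_zero.1 hab)).trans hb)
  let z : ∀ n, Γ((𝓙 ^ (n + 1)).subscheme, ⊤) := fun n => (y n).app ⊤ (1 : Γ(W, ⊤))
  choose a ha using fun n => h.surj n (z n)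
  have hstep : ∀ n, a (n + 1) - a n ∈ J ^ (n + 1) := fun n => by
    refine (h.ker n _).1 ?_
    rw [map_sub, map_sub, sub_eq_zero]
    refine ((app_incl (φ (a (n + 1)))).symm.trans ?_).trans (ha n).symm
    refine (congrArg _ (ha (n + 1))).trans ?_
    have h1 := congrArg (fun t => t.app ⊤ (1 : Γ(W, ⊤))) (hy n)
    refine Eq.trans ?_ h1
    exact (quotMap_app_top (Lef.pow_succ_le 𝓙 n) (z (n + 1))).symm
  have hc : ∀ {m n}, m ≤ n → a n - a m ∈ J ^ (m + 1) := fun {m n} hmn => by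
    induction n, hmn using Nat.le_induction with
    | base => rw [sub_self]; exact zero_mem _
    | succ k hk ih =>
      rw [show a (k + 1) - a m = (a (k + 1) - a k) + (a k - a m) by ring]
      exact add_mem (Ideal.pow_le_pow_right (by omega) (hstep k)) ih
  obtain ⟨L, hL⟩ := (inferInstance : IsPrecomplete J A).prec' (fun n => a n) fun {m n} hmn => by
    refine SModEq.sub_mem.2 ?_
    rw [smul_eq_mul, Ideal.mul_top, ← neg_sub]
    exact neg_mem (Ideal.pow_le_pow_right (Nat.le_succ m) (hc hmn))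
  refine ⟨QCoh.homOfTop (P := Coh.structureModule W) (φ L), fun n => H26.LefIdem.hom_ext_one _ _ ?_⟩
  refine Eq.trans ?_ (show (𝓙 ^ (n + 1)).subschemeι.app ⊤ (φ L) = (y n).app ⊤ (1 : Γ(W, ⊤)) from ?_)
  · exact congrArg (fun t => (𝓙 ^ (n + 1)).subschemeι.app ⊤ t)
      (H26.LefIdem.app_homOfTop (P := Coh.structureModule W) (φ L))
  · refine Eq.trans ?_ (ha n)
    rw [← sub_eq_zero, ← map_sub, ← map_sub]
    refine (h.ker n _).2 ?_
    have h1 := SModEq.sub_mem.1 (hL (n + 1))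
    rw [smul_eq_mul, Ideal.mul_top] at h1
    rw [show L - a n = (a (n + 1) - a n) - (a (n + 1) - L) by ring]
    exact sub_mem (hstep n) h1

/-- The presentation transports along isomorphisms. -/
theorem Presented.comap {W' : Scheme.{u}} (e : W' ⟶ W) [IsIso e] (h : Presented J 𝓙 φ) :
    Presented J (𝓙.comap e) (e.appTop.hom.comp φ) := by
  have key : ∀ n, ∃ g : ((𝓙.comap e) ^ (n + 1)).subscheme ⟶ (𝓙 ^ (n + 1)).subscheme, IsIso g ∧
      g ≫ (𝓙 ^ (n + 1)).subschemeι = ((𝓙.comap e) ^ (n + 1)).subschemeι ≫ e := fun n => by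
    haveI : IsIso (H26.LefFEt.subMap e (𝓙 ^ (n + 1))) :=
      (H26.LefFEt.isPullback_subMap e (𝓙 ^ (n + 1))).isIso_fst_of_isIso
    haveI := H26.LefPic.isIso_inclusion_of_eq (FComplLib.comap_pow e 𝓙 (n + 1))
    refine ⟨Scheme.IdealSheafData.inclusion (FComplLib.comap_pow e 𝓙 (n + 1)).le ≫
      H26.LefFEt.subMap e (𝓙 ^ (n + 1)), inferInstance, ?_⟩
    rw [Category.assoc, (H26.LefFEt.isPullback_subMap e (𝓙 ^ (n + 1))).w, ← Category.assoc,
      Scheme.IdealSheafData.inclusion_subschemeι]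
  choose g hg hgw using key
  have hgb : ∀ n, Function.Bijective (g n).appTop := fun n => by
    haveI := hg n
    haveI : IsIso (g n).appTop := inferInstance
    exact ConcreteCategory.bijective_of_isIso (g n).appTop
  have heq : ∀ n a, ((𝓙.comap e) ^ (n + 1)).subschemeι.app ⊤ ((e.appTop.hom.comp φ) a) =
      (g n).appTop ((𝓙 ^ (n + 1)).subschemeι.app ⊤ (φ a)) := fun n a =>
    congrArg (fun q : _ ⟶ W => q.appTop (φ a)) (hgw n).symm
  refine ⟨(ConcreteCategory.bijective_of_isIso e.appTop).comp h.bij, fun n => ?_, fun n a => ?_⟩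
  · rw [show (fun a => ((𝓙.comap e) ^ (n + 1)).subschemeι.app ⊤ ((e.appTop.hom.comp φ) a)) =
      fun a => (g n).appTop ((𝓙 ^ (n + 1)).subschemeι.app ⊤ (φ a)) from _root_.funext (heq n)]
    exact (hgb n).2.comp (h.surj n)
  · rw [heq, ← h.ker n a, map_eq_zero_iff _ (hgb n).1]

/-- An invertible module with a formal generator is trivial if `Hom(D,O) = lim Hom(D, O/J^n)` for all `D`. -/
theorem nonempty_iso_of_formalGen {T : Scheme.{u}} (J : T.IdealSheafData)
    (h : ∀ D : T.Modules, FlatMod.IsFinLocFree D → Lef.HomToFormalBijective J D)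
    {D : T.Modules} (hD : PicF.IsInvertible D) (z : ∀ n, D ⟶ ClSub.quotMod (J ^ (n + 1)))
    (hz : Lef.IsFormalHom J D z) [Epi (z 0)] : Nonempty (D ≅ Coh.structureModule T) := by
  letI := PicMul.clMonoid T
  obtain ⟨φ, hφ⟩ := (h D (AVKLExist.isFinLocFree_of_isInvertible hD)).2 z hz
  obtain ⟨D', hD', ⟨w0⟩⟩ := PicInv.exists_inverse hD
  have hcl : PicF.cl D * PicF.cl D' = 1 :=
    (PicMul.cl_tensor _ _).symm.trans ((PicMul.cl_eq_iff.2 ⟨w0⟩).trans PicMul.one_def.symm)
  obtain ⟨w⟩ : Nonempty ((DCoh.tensorBi.obj D').obj D ≅ Coh.structureModule T) :=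
    PicMul.cl_eq_iff.1 (by
      show PicF.cl (CohB1.tensorMod D' D) = _
      rw [PicMul.cl_tensor, mul_comm, hcl]
      exact PicMul.one_def)
  let ru : (DCoh.tensorBi.obj D').obj (Coh.structureModule T) ≅ D' := KFlatLib.tensorUnitIso D'
  let t : Coh.structureModule T ⟶ D' := w.inv ≫ (DCoh.tensorBi.obj D').map φ ≫ ru.hom
  haveI : Epi (φ ≫ ClSub.toSubscheme (J ^ (0 + 1))) := by rw [hφ 0]; infer_instance
  have hV : (J.support : Set T) ⊆ (CohB1.genLocus D' t : Set T) := fun x hx => by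
    refine H26.LefPic.mem_genLocus_of_surjective hD' t ?_
    have hxs : x ∈ (J ^ (0 + 1)).support := by
      show x ∈ ((J ^ (0 + 1)).support : Set T)
      rw [Scheme.IdealSheafData.support_pow_succ]; exact hx
    have h1 := H26.LefPic.stalk_surjective_of_epi_comp _ φ hxs
    obtain ⟨e⟩ := InvStalk.exists_stalk_equiv hD' x
    have h2 := (InvStalk.stalk_tensor_map_surjective_iff φ x e).2 h1
    simp only [t, Functor.map_comp]
    exact (ConcreteCategory.bijective_of_isIso ((DerSch.stalkFunctor _ x).map ru.hom)).2.comp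
      (h2.comp (ConcreteCategory.bijective_of_isIso ((DerSch.stalkFunctor _ x).map w.inv)).2)
  let V := CohB1.genLocus D' t
  haveI : IsIso ((Scheme.Modules.restrictFunctor V.ι).map t) :=
    (InvX.isIso_restrict_iff t _).2 (AmpleX.res_genLocus_frame t)
  haveI : IsIso ((Scheme.Modules.pullback V.ι).map t) :=
    (NatIso.isIso_map_iff (Scheme.Modules.restrictFunctorIsoPullback V.ι) t).1 inferInstance
  obtain ⟨y, hy, hty⟩ := H26.LefPic.exists_formal_inverse J t V hV
  obtain ⟨ψ, hψ⟩ := (h D' (AVKLExist.isFinLocFree_of_isInvertible hD')).2 y hy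
  have h1 : t ≫ ψ = 𝟙 _ := (h (Coh.structureModule T)
    (AVKLExist.isFinLocFree_of_isInvertible InvStalk.isInvertible_structureModule)).1 _ _ fun n => by
      rw [Category.assoc, hψ n, hty n, Category.id_comp]
  haveI : Epi ψ := epi_of_epi_fac h1
  haveI : IsIso ψ := SeesawX.isIso_of_epi_rank (SeesawX.isFinLocFreeOfRank_one hD')
    (SeesawX.isFinLocFreeOfRank_one InvStalk.isInvertible_structureModule) ψ
  refine PicMul.cl_eq_iff.1 ?_
  have hD'1 : PicF.cl D' = 1 := (PicMul.cl_eq_iff.2 ⟨asIso ψ⟩).trans PicMul.one_def.symm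
  rw [hD'1, mul_one] at hcl
  exact hcl.trans PicMul.one_def

end Groth.Agent.GrLib8.NFlatPunct
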