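import Groth.Agent.LC.Factor
import Groth.Agent.LC.CdDim
import Groth.Agent.LC.CohTorsion
import Groth.Agent.LC.Finiteness

/-!
# Finiteness of local cohomology of modules which are locally a summand of a free one
-/

set_option autoImplicit false
set_option linter.style.haveILetI false
set_option linter.unusedSectionVars false

universe u

open CategoryTheory

namespace Groth.Agent.GrLib8.NFlatPunct.FinCoh

variable {R : Type u} [CommRing R] [IsNoetherianRing R] (I : Ideal R)
  (Q : Type u) [AddCommGroup Q] [Module R Q] [Module.Finite R Q]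

/-- Outside `V(I)`, `N` is locally a direct summand of a power of `Q`. -/
def SummandOff (N : Type u) [AddCommGroup N] [Module R N] : Prop :=
  ∀ a ∈ I, ∃ (e n : ℕ) (s : N →ₗ[R] (Fin n → Q)) (t : (Fin n → Q) →ₗ[R] N), ∀ x, t (s x) = a ^ e • x

variable {I Q}

theorem subsingleton_H_pi (i : ℕ) (h : Subsingleton ((localCohomology I i).obj (ModuleCat.of R Q))) :
    ∀ r : ℕ, Subsingleton ((localCohomology I i).obj (ModuleCat.of R (Fin r → Q))) := by
  intro r
  induction r with
  | zero => exact LC.subsingleton_H_of_subsingleton I _ i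
  | succ r ih =>
    let e := Fin.consLinearEquiv R fun _ : Fin (r + 1) => Q
    haveI : Subsingleton ((localCohomology I i).obj (ModuleCat.of R (Q × (Fin r → Q)))) := by
      let S : ShortComplex (ModuleCat.{u} R) := ShortComplex.mk (X₁ := ModuleCat.of R Q)
        (X₂ := ModuleCat.of R (Q × (Fin r → Q))) (X₃ := ModuleCat.of R (Fin r → Q))
        (ModuleCat.ofHom (LinearMap.inl R Q (Fin r → Q))) (ModuleCat.ofHom (LinearMap.snd R Q (Fin r → Q)))
        (ModuleCat.hom_ext (LinearMap.ext fun z => rfl))
      have hS : S.ShortExact :=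
        { exact := (ShortComplex.ShortExact.moduleCat_exact_iff_function_exact _).2 Function.Exact.inl_snd
          mono_f := (ModuleCat.mono_iff_injective _).2 LinearMap.inl_injective
          epi_g := (ModuleCat.epi_iff_surjective _).2 LinearMap.snd_surjective }
      exact LC.subsingleton_H_of_shortExact I hS i h ih
    exact ((localCohomology I i).mapIso e.toModuleIso).toLinearEquiv.symm.toEquiv.subsingleton

theorem exists_embedding (N : Type u) [AddCommGroup N] [Module R N] [Module.Finite R N] (hN : SummandOff I Q N) :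
    ∃ (b : ℕ) (φ : N →ₗ[R] (Fin b → Q)), LocCoh.IsPowerTorsion I (LinearMap.ker φ) ∧
      SummandOff I Q ((Fin b → Q) ⧸ LinearMap.range φ) := by
  obtain ⟨b, g, hg⟩ := Module.Finite.exists_fin (R := R) (M := N →ₗ[R] Q)
  let φ : N →ₗ[R] (Fin b → Q) := LinearMap.pi g
  have hfac : ∀ {n : ℕ} (s : N →ₗ[R] (Fin n → Q)), ∃ L : (Fin b → Q) →ₗ[R] (Fin n → Q), ∀ x, L (φ x) = s x := by
    intro n s
    have h : ∀ f : N →ₗ[R] Q, ∃ c : Fin b → R, ∑ k, c k • g k = f := fun f =>
      (Submodule.mem_span_range_iff_exists_fun R).1 (hg ▸ (trivial : f ∈ (⊤ : Submodule R (N →ₗ[R] Q))))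
    choose c hc using fun j => h (LinearMap.proj j ∘ₗ s)
    refine ⟨LinearMap.pi fun j => ∑ k, c j k • (LinearMap.proj k : (Fin b → Q) →ₗ[R] Q), fun x => funext fun j => ?_⟩
    have := LinearMap.congr_fun (hc j) x
    rw [LinearMap.pi_apply, LinearMap.sum_apply]
    rw [LinearMap.sum_apply] at this
    exact this
  refine ⟨b, φ, fun x => ?_, fun a ha => ?_⟩
  · let K : Ideal R := LinearMap.ker (LinearMap.toSpanSingleton R N (x : N))
    have hK : I ≤ K.radical := fun a ha => by
      obtain ⟨e, n, s, t, hst⟩ := hN a ha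
      obtain ⟨L, hL⟩ := hfac s
      refine ⟨e, ?_⟩
      show a ^ e • (x : N) = 0
      rw [← hst, ← hL, LinearMap.mem_ker.1 x.2, map_zero, map_zero]
    obtain ⟨m, hm⟩ := Ideal.exists_pow_le_of_le_radical_of_fg hK (IsNoetherian.noetherian I)
    exact ⟨m, fun a ha => Subtype.ext (hm ha)⟩
  · obtain ⟨e, n, s, t, hst⟩ := hN a ha
    obtain ⟨L, hL⟩ := hfac s
    refine ⟨e, b, (LinearMap.range φ).liftQ (a ^ e • LinearMap.id - φ ∘ₗ t ∘ₗ L) ?_, (LinearMap.range φ).mkQ, fun y => ?_⟩
    · rintro _ ⟨x, rfl⟩
      show a ^ e • φ x - φ (t (L (φ x))) = 0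
      rw [hL, hst, map_smul, sub_self]
    · induction y using Submodule.Quotient.induction_on with
      | _ y =>
        show Submodule.Quotient.mk (a ^ e • y - φ (t (L y))) = a ^ e • Submodule.Quotient.mk y
        rw [Submodule.Quotient.mk_sub, Submodule.Quotient.mk_smul,
          (Submodule.Quotient.mk_eq_zero _).2 (LinearMap.mem_range_self φ _), sub_zero]

theorem finite_H1 (h1 : Subsingleton ((localCohomology I 1).obj (ModuleCat.of R Q)))
    (N : Type u) [AddCommGroup N] [Module R N] [Module.Finite R N] (hN : SummandOff I Q N) :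
    Module.Finite R ((localCohomology I 1).obj (ModuleCat.of R N)) := by
  obtain ⟨b, φ, hker, -⟩ := exists_embedding N hN
  haveI := subsingleton_H_pi 1 h1 b
  haveI : Subsingleton ((localCohomology I 1).obj (ModuleCat.of R (LinearMap.ker φ))) :=
    LC.subsingleton_of_torsion I 0 (ModuleCat.of R (LinearMap.ker φ)) hker
  exact LC.finite_H1_of_exact I (LinearMap.ker φ).subtype φ.rangeRestrict (LinearMap.ker φ).injective_subtype
    φ.surjective_rangeRestrict
    (LinearMap.exact_iff.2 (by rw [Submodule.range_subtype, LinearMap.ker_rangeRestrict])) inferInstance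
    (LC.finite_H1_of_injective I (LinearMap.range φ).subtype (LinearMap.range φ).injective_subtype inferInstance)

theorem finite_H2 (h1 : Subsingleton ((localCohomology I 1).obj (ModuleCat.of R Q)))
    (h2 : Subsingleton ((localCohomology I 2).obj (ModuleCat.of R Q)))
    (N : Type u) [AddCommGroup N] [Module R N] [Module.Finite R N] (hN : SummandOff I Q N) :
    Module.Finite R ((localCohomology I 2).obj (ModuleCat.of R N)) := by
  obtain ⟨b, φ, hker, hC⟩ := exists_embedding N hN
  haveI := finite_H1 h1 _ hC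
  let S : ShortComplex (ModuleCat.{u} R) := ShortComplex.mk (X₁ := ModuleCat.of R (LinearMap.ker φ))
    (X₂ := ModuleCat.of R N) (X₃ := ModuleCat.of R (LinearMap.range φ))
    (ModuleCat.ofHom (LinearMap.ker φ).subtype) (ModuleCat.ofHom φ.rangeRestrict)
    (ModuleCat.hom_ext (LinearMap.ext fun z => Subtype.ext (LinearMap.mem_ker.1 z.2)))
  have hS : S.ShortExact :=
    { exact := (ShortComplex.ShortExact.moduleCat_exact_iff_function_exact _).2
        (LinearMap.exact_iff.2 (by
          show LinearMap.ker φ.rangeRestrict = LinearMap.range (LinearMap.ker φ).subtype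
          rw [Submodule.range_subtype, LinearMap.ker_rangeRestrict]))
      mono_f := (ModuleCat.mono_iff_injective _).2 (LinearMap.ker φ).injective_subtype
      epi_g := (ModuleCat.epi_iff_surjective _).2 φ.surjective_rangeRestrict }
  let T : ShortComplex (ModuleCat.{u} R) := ShortComplex.mk (X₁ := ModuleCat.of R (LinearMap.range φ))
    (X₂ := ModuleCat.of R (Fin b → Q)) (X₃ := ModuleCat.of R ((Fin b → Q) ⧸ LinearMap.range φ))
    (ModuleCat.ofHom (LinearMap.range φ).subtype) (ModuleCat.ofHom (LinearMap.range φ).mkQ)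
    (ModuleCat.hom_ext (LinearMap.ext fun z => (Submodule.Quotient.mk_eq_zero _).2 z.2))
  have hT : T.ShortExact :=
    { exact := (ShortComplex.ShortExact.moduleCat_exact_iff_function_exact _).2
        (LinearMap.exact_subtype_mkQ (LinearMap.range φ))
      mono_f := (ModuleCat.mono_iff_injective _).2 (LinearMap.range φ).injective_subtype
      epi_g := (ModuleCat.epi_iff_surjective _).2 (Submodule.mkQ_surjective _) }
  haveI hb := subsingleton_H_pi 2 h2 b
  haveI hX1 : Module.Finite R ((localCohomology I 2).obj T.X₁) :=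
    Module.Finite.of_surjective (LC.δH I 1 hT 2 rfl) fun z =>
      (LC.exact₁ I 1 hT 2 rfl z).1 (@Subsingleton.elim _ hb _ _)
  haveI := LC.subsingleton_of_torsion I 1 (ModuleCat.of R (LinearMap.ker φ)) hker
  refine Module.Finite.of_injective ((localCohomology I 2).map S.g).hom
    ((injective_iff_map_eq_zero _).2 fun z hz => ?_)
  obtain ⟨w, rfl⟩ := (LC.exact₂ I 2 hS z).1 hz
  rw [show w = 0 from @Subsingleton.elim _ this _ _, map_zero]

end Groth.Agent.GrLib8.NFlatPunct.FinCoh
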