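import Groth.Agent.Algz7.Canon2.Alg

/-!
# Monomial bases of free graded pieces
-/

set_option autoImplicit false
set_option linter.style.haveILetI false
set_option backward.isDefEq.respectTransparency false
set_option backward.isDefEq.respectTransparency.types false

universe u v w

open Groth.Agent.Algz7.Canon2

namespace Groth.Agent.GrLib8.NFlatPunct

variable {A : Type u} [CommRing A] [IsNoetherianRing A] (J : Ideal A) [IsLocalRing (A ⧸ J)]

/-- Monomials giving a basis of a free graded piece. -/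
theorem exists_monomial_basis_of_free {k : ℕ} (a : Fin k → A) (ha : Ideal.span (Set.range a) = J) (n : ℕ)
    (hfree : Module.Free (A ⧸ J) (↥(J ^ n) ⧸ (J • (⊤ : Submodule A ↥(J ^ n))))) :
    ∃ S : Finset (Sym (Fin k) n),
      J ^ n ≤ Ideal.span ((fun s => mon a s) '' (S : Set (Sym (Fin k) n))) ⊔ J ^ (n + 1) ∧
      ∀ c : S → A, ∑ b, c b * mon a b.1 ∈ J ^ (n + 1) → ∀ b, c b ∈ J := by
  classical
  haveI := hfree
  let Q := ↥(J ^ n) ⧸ (J • (⊤ : Submodule A ↥(J ^ n)))
  haveI : Module.Finite A ↥(J ^ n) := Module.Finite.iff_fg.2 (IsNoetherian.noetherian _)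
  haveI : Module.Finite (A ⧸ J) Q := Module.Finite.of_restrictScalars_finite A _ _
  haveI : Module.FinitePresentation (A ⧸ J) Q := Module.finitePresentation_of_finite _ _
  have hm : ∀ s : Sym (Fin k) n, mon a s ∈ J ^ n := fun s => ha ▸ mon_mem_span a n s
  let v : ULift.{u} (Sym (Fin k) n) → Q := fun s => Submodule.Quotient.mk ⟨mon a s.down, hm s.down⟩
  have hzero : ∀ x : ↥(J ^ n), (Submodule.Quotient.mk x : Q) = 0 ↔ (x : A) ∈ J ^ (n + 1) := fun x => by
    rw [Submodule.Quotient.mk_eq_zero]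
    have hmap : (J • (⊤ : Submodule A ↥(J ^ n))).map (J ^ n).subtype = J ^ (n + 1) := by
      rw [Submodule.map_smul'', Submodule.map_top, Submodule.range_subtype, smul_eq_mul, pow_succ']
    refine ⟨fun h => hmap.le ⟨x, h, rfl⟩, fun h => ?_⟩
    obtain ⟨y, hy, hyx⟩ := hmap.ge h
    rwa [show x = y from Subtype.ext hyx.symm]
  have hv : Submodule.span (A ⧸ J) (Set.range v) = ⊤ := by
    refine top_le_iff.1 fun q _ => ?_
    obtain ⟨⟨x, hx⟩, rfl⟩ := Submodule.Quotient.mk_surjective _ q
    have hx' : x ∈ Ideal.span (Set.range fun s : Sym (Fin k) n => mon a s) := pow_le_span_mon a n (by rwa [ha])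
    obtain ⟨c, hc⟩ := (Submodule.mem_span_range_iff_exists_fun A).1 hx'
    have : (Submodule.Quotient.mk ⟨x, hx⟩ : Q) = ∑ s, c s • v ⟨s⟩ := by
      simp only [v, ← Submodule.Quotient.mk_smul]
      rw [← Submodule.mkQ_apply, show (⟨x, hx⟩ : ↥(J ^ n)) = ∑ s, c s • ⟨mon a s, hm s⟩ from
        Subtype.ext (by simpa using hc.symm), map_sum]
      rfl
    rw [this]
    refine Submodule.sum_mem _ fun s _ => ?_
    rw [← algebraMap_smul (A ⧸ J) (c s) (v ⟨s⟩)]
    exact Submodule.smul_mem _ _ (Submodule.subset_span ⟨⟨s⟩, rfl⟩)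
  obtain ⟨κ, σ, bs, hbs⟩ := Module.exists_basis_of_span_of_flat v hv
  have hσ : Function.Injective σ := fun i j h => bs.injective (by rw [hbs, hbs, h])
  haveI : Finite κ := Finite.of_injective σ hσ
  haveI := Fintype.ofFinite κ
  let τ : κ → Sym (Fin k) n := fun i => (σ i).down
  have hτ : Function.Injective τ := fun i j h => hσ (ULift.ext _ _ h)
  refine ⟨Finset.univ.image τ, fun x hx => ?_, fun c hc b => ?_⟩
  · let q : Q := Submodule.Quotient.mk ⟨x, hx⟩
    choose c hc using fun i => Ideal.Quotient.mk_surjective (bs.repr q i)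
    let z : ↥(J ^ n) := ∑ i, c i • ⟨mon a (τ i), hm (τ i)⟩
    have hq : q = Submodule.Quotient.mk z := by
      rw [← bs.sum_repr q, ← Submodule.mkQ_apply, map_sum]
      refine Finset.sum_congr rfl fun i _ => ?_
      rw [map_smul, hbs, ← hc i, ← algebraMap_smul (A ⧸ J) (c i)]
      rfl
    have h0 := (hzero (⟨x, hx⟩ - z)).1 (by rw [Submodule.Quotient.mk_sub, sub_eq_zero]; exact hq)
    rw [← add_sub_cancel (z : A) x]
    refine Submodule.add_mem_sup ?_ h0
    rw [show (z : A) = ∑ i, c i * mon a (τ i) by simp [z]]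
    exact Ideal.sum_mem _ fun i _ => Ideal.mul_mem_left _ _
      (Ideal.subset_span ⟨τ i, Finset.mem_coe.2 (Finset.mem_image_of_mem τ (Finset.mem_univ i)), rfl⟩)
  · obtain ⟨i₀, -, hi₀⟩ := Finset.mem_image.1 b.2
    let c' : κ → A := fun i => c ⟨τ i, Finset.mem_image_of_mem τ (Finset.mem_univ i)⟩
    have hsum : ∑ i, c' i * mon a (τ i) ∈ J ^ (n + 1) := by
      convert hc using 1
      refine Finset.sum_bij (fun i _ => (⟨τ i, Finset.mem_image_of_mem τ (Finset.mem_univ i)⟩ : {x // x ∈ Finset.univ.image τ}))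
        (fun i _ => Finset.mem_univ _) (fun i _ j _ h => hτ (congrArg Subtype.val h))
        (fun b _ => ?_) (fun i _ => rfl)
      obtain ⟨i, -, hi⟩ := Finset.mem_image.1 b.2
      exact ⟨i, Finset.mem_univ _, Subtype.ext hi⟩
    have h0 : ∑ i, Ideal.Quotient.mk J (c' i) • bs i = 0 := by
      refine Eq.trans ?_ ((hzero ⟨∑ i, c' i * mon a (τ i), Ideal.pow_le_pow_right (Nat.le_succ n) hsum⟩).2 hsum)
      rw [show (⟨_, Ideal.pow_le_pow_right (Nat.le_succ n) hsum⟩ : ↥(J ^ n)) = ∑ i, c' i • ⟨mon a (τ i), hm (τ i)⟩ from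
        Subtype.ext (by simp), ← Submodule.mkQ_apply, map_sum]
      refine Finset.sum_congr rfl fun i _ => ?_
      rw [map_smul, hbs, ← algebraMap_smul (A ⧸ J) (c' i)]
      rfl
    have h1 := Fintype.linearIndependent_iff.1 bs.linearIndependent _ h0 i₀
    rw [Ideal.Quotient.eq_zero_iff_mem] at h1
    have : b = ⟨τ i₀, Finset.mem_image_of_mem τ (Finset.mem_univ i₀)⟩ := Subtype.ext hi₀.symm
    rw [this]
    exact h1

omit [IsNoetherianRing A] [IsLocalRing (A ⧸ J)] in
/-- The conditions on completed stalks, read through a free model of a level. -/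
theorem conditions_of_model {O : Type w} [CommRing O] [Algebra A O] (T : Submonoid A) [IsLocalization T O]
    {M : Type v} [AddCommGroup M] [Module O M] {G : Type v} [AddCommGroup G] [Module O G] {r k n : ℕ}
    (a : Fin k → A) (S : Finset (Sym (Fin k) n))
    (hS1 : J ^ n ≤ Ideal.span ((fun s => mon a s) '' (S : Set (Sym (Fin k) n))) ⊔ J ^ (n + 1))
    (hS2 : ∀ c : S → A, ∑ b, c b * mon a b.1 ∈ J ^ (n + 1) → ∀ b, c b ∈ J)
    (𝔧 : Ideal O) (h𝔧 : 𝔧 = J.map (algebraMap A O)) (π : M →ₗ[O] G) (hπs : Function.Surjective π)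
    (hπk : LinearMap.ker π = 𝔧 ^ (n + 1) • ⊤) (e : G ≃ₗ[O] (Fin r → O ⧸ 𝔧 ^ (n + 1))) :
    (𝔧 ^ n • (⊤ : Submodule O M) ≤
        (⨆ b : S, LinearMap.range (algebraMap A O (mon a b.1) • (LinearMap.id : M →ₗ[O] M))) ⊔
          𝔧 ^ (n + 1) • ⊤) ∧
      ∀ w : S → M, ∑ b, algebraMap A O (mon a b.1) • w b ∈ 𝔧 ^ (n + 1) • (⊤ : Submodule O M) →
        ∀ b, w b ∈ 𝔧 • (⊤ : Submodule O M) := by
  subst h𝔧
  refine ⟨?_, fun w hw b₀ => ?_⟩
  · rw [← Ideal.map_pow, ← Ideal.map_pow, Submodule.smul_le]
    intro s hs z _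
    have h := Ideal.map_mono (f := algebraMap A O) hS1 hs
    rw [Ideal.map_sup, Ideal.map_span] at h
    obtain ⟨s₁, h₁, s₂, h₂, rfl⟩ := Submodule.mem_sup.1 h
    rw [add_smul]
    refine add_mem (Submodule.mem_sup_left ?_) (Submodule.mem_sup_right (Submodule.smul_mem_smul h₂ trivial))
    clear h hs
    induction h₁ using Submodule.span_induction with
    | mem x hx =>
      obtain ⟨_, ⟨b, hb, rfl⟩, rfl⟩ := hx
      exact Submodule.mem_iSup_of_mem ⟨b, Finset.mem_coe.1 hb⟩ ⟨z, rfl⟩
    | zero => rw [zero_smul]; exact zero_mem _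
    | add x y _ _ hx hy => rw [add_smul]; exact add_mem hx hy
    | smul c x _ hx => rw [smul_assoc]; exact Submodule.smul_mem _ c hx
  · classical
    choose c hc using fun (b : S) (i : Fin r) => Ideal.Quotient.mk_surjective (e (π (w b)) i)
    have hc0 : ∀ b i, c b i ∈ J.map (algebraMap A O) := by
      intro b i
      have h0 : ∑ b, algebraMap A O (mon a b.1) * c b i ∈ J.map (algebraMap A O) ^ (n + 1) := by
        rw [← Ideal.Quotient.eq_zero_iff_mem, map_sum]
        rw [← hπk, LinearMap.mem_ker, map_sum] at hw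
        have h := congrFun (congrArg e hw) i
        rw [map_zero, map_sum, Finset.sum_apply] at h
        refine Eq.trans (Finset.sum_congr rfl fun b _ => ?_) h
        rw [map_smul, map_smul, map_mul, hc]
        rfl
      obtain ⟨⟨t, ht⟩, hts⟩ := IsLocalization.exist_integer_multiples_of_finite T (fun b : S => c b i)
      choose d hd using hts
      have h1 : algebraMap A O (∑ b, d b * mon a b.1) ∈ (J ^ (n + 1)).map (algebraMap A O) := by
        rw [map_sum, Ideal.map_pow]
        have := Ideal.mul_mem_left _ (algebraMap A O t) h0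
        rw [Finset.mul_sum] at this
        convert this using 1
        refine Finset.sum_congr rfl fun b _ => ?_
        rw [map_mul, hd b, Algebra.smul_def]
        show algebraMap A O t * c b i * _ = _
        ring
      obtain ⟨s, hs, hsm⟩ := (IsLocalization.algebraMap_mem_map_algebraMap_iff T O (J ^ (n + 1)) _).1 h1
      have h2 := hS2 (fun b => s * d b) (by
        rw [Finset.mul_sum] at hsm
        simpa [mul_assoc] using hsm) b
      have h3 : algebraMap A O (s * d b) ∈ J.map (algebraMap A O) := Ideal.mem_map_of_mem _ h2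
      rw [map_mul, hd b, Algebra.smul_def, ← mul_assoc] at h3
      exact (Ideal.unit_mul_mem_iff_mem _ ((IsLocalization.map_units O (⟨s, hs⟩ : T)).mul
        (IsLocalization.map_units O (⟨t, ht⟩ : T)))).1 h3
    have hG : π (w b₀) ∈ J.map (algebraMap A O) • (⊤ : Submodule O G) := by
      have he : e (π (w b₀)) ∈ J.map (algebraMap A O) • (⊤ : Submodule O (Fin r → O ⧸ J.map (algebraMap A O) ^ (n + 1))) := by
        rw [pi_eq_sum_univ (e (π (w b₀)))]
        refine Submodule.sum_mem _ fun i _ => ?_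
        rw [← hc b₀ i]
        have : (Ideal.Quotient.mk (J.map (algebraMap A O) ^ (n + 1)) (c b₀ i)) •
            (fun j => if i = j then (1 : O ⧸ J.map (algebraMap A O) ^ (n + 1)) else 0) =
            c b₀ i • (fun j => if i = j then (1 : O ⧸ J.map (algebraMap A O) ^ (n + 1)) else 0) := by
          ext j
          simp only [Pi.smul_apply, smul_eq_mul, Algebra.smul_def]
          rfl
        rw [this]
        exact Submodule.smul_mem_smul (hc0 b₀ i) trivial
      have h4 := Submodule.mem_map_of_mem (f := (e.symm : (Fin r → O ⧸ J.map (algebraMap A O) ^ (n + 1)) →ₗ[O] G)) he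
      rw [Submodule.map_smul''] at h4
      simpa using Submodule.smul_mono le_rfl le_top h4
    rw [← Submodule.range_subtype (⊤ : Submodule O G)] at hG
    have h5 : π (w b₀) ∈ (J.map (algebraMap A O) • (⊤ : Submodule O M)).map π := by
      rw [Submodule.map_smul'', Submodule.map_top, LinearMap.range_eq_top.2 hπs]
      rwa [Submodule.range_subtype] at hG
    obtain ⟨m, hm, hmw⟩ := h5
    rw [← add_sub_cancel m (w b₀)]
    refine add_mem hm (Submodule.smul_mono (Ideal.pow_le_self n.succ_ne_zero) le_rfl ?_)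
    rw [← hπk, LinearMap.mem_ker, map_sub, hmw, sub_self]

end Groth.Agent.GrLib8.NFlatPunct
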