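import Groth.Prelude.Def_EGA4b
import Groth.Prelude.Def_CAlg
import Groth.Agent.Synt29.NormFlatVanish
import Groth.Agent.Alg6.LocLoc
import Groth.Agent.S5182

/-!
# Depth of the thickenings of a normally flat ideal
-/

set_option autoImplicit false
set_option linter.style.haveILetI false

universe u

open IsLocalRing

namespace Groth.Agent.GrLib8.NFlatPunct

variable {A : Type u} [CommRing A] [IsLocalRing A] [IsNoetherianRing A]

omit [IsLocalRing A] [IsNoetherianRing A] in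
theorem isNormallyFlat_of_free {J : Ideal A}
    (hgr : ∀ n : ℕ, Module.Free (A ⧸ J) (↥(J ^ n) ⧸ (J • (⊤ : Submodule A ↥(J ^ n))))) :
    EGA4.IsNormallyFlat J A := by
  intro n
  have key : ∀ (S : Submodule A A), S = J ^ n →
      Module.Flat (A ⧸ J) (↥S ⧸ (J • (⊤ : Submodule A ↥S))) := by
    rintro S rfl
    haveI := hgr n
    infer_instance
  exact key _ (by rw [smul_eq_mul, Ideal.mul_top])

/-- The depth of a thickening is at least the depth of `A / J`. -/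
theorem le_depth_quot_pow {J : Ideal A} [IsLocalRing (A ⧸ J)]
    (hgr : ∀ n : ℕ, Module.Free (A ⧸ J) (↥(J ^ n) ⧸ (J • (⊤ : Submodule A ↥(J ^ n))))) {d : ℕ}
    (hd : (d : ℕ∞) ≤ LocCoh.depth (A ⧸ J) (A ⧸ J)) (n : ℕ) [IsLocalRing (A ⧸ J ^ (n + 1))] :
    (d : ℕ∞) ≤ LocCoh.depth (A ⧸ J ^ (n + 1)) (A ⧸ J ^ (n + 1)) := by
  rw [← Alg6.depth_eq_of_semilinear (M := A ⧸ J) (Ideal.Quotient.mk J) Ideal.Quotient.mk_surjective (AddEquiv.refl _)
    (fun r x => Algebra.smul_def r x)] at hd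
  let e : (A ⧸ (J ^ (n + 1) • ⊤ : Submodule A A)) ≃ₗ[A] A ⧸ J ^ (n + 1) :=
    Submodule.quotEquivOfEq _ _ (by rw [smul_eq_mul, Ideal.mul_top])
  rw [← Alg6.depth_eq_of_semilinear (M := A ⧸ (J ^ (n + 1) • ⊤ : Submodule A A)) (Ideal.Quotient.mk (J ^ (n + 1)))
    Ideal.Quotient.mk_surjective e.toAddEquiv (fun r x => (e.map_smul r x).trans (Algebra.smul_def r _))]
  unfold LocCoh.depth at hd ⊢
  exact (LC.le_idealDepth_iff_H (maximalIdeal A) _ d).2 fun i hi =>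
    Synt29.NormFlatVanish.subsingleton_H_quot_pow (maximalIdeal A) J (isNormallyFlat_of_free hgr) i
      ((LC.le_idealDepth_iff_H (maximalIdeal A) (A ⧸ J) d).1 hd i hi) (n + 1)

/-- The depth of `A` is at least the depth of `A / J`. -/
theorem le_depth_self {J : Ideal A} (hJ : J ≠ ⊤) [IsLocalRing (A ⧸ J)]
    (hgr : ∀ n : ℕ, Module.Free (A ⧸ J) (↥(J ^ n) ⧸ (J • (⊤ : Submodule A ↥(J ^ n))))) {d : ℕ}
    (hd : (d : ℕ∞) ≤ LocCoh.depth (A ⧸ J) (A ⧸ J)) :
    (d : ℕ∞) ≤ LocCoh.depth A A := by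
  rw [← Alg6.depth_eq_of_semilinear (M := A ⧸ J) (Ideal.Quotient.mk J) Ideal.Quotient.mk_surjective (AddEquiv.refl _)
    (fun r x => Algebra.smul_def r x)] at hd
  unfold LocCoh.depth LocCoh.idealDepth at hd
  have hne : maximalIdeal A • (⊤ : Submodule A (A ⧸ J)) ≠ ⊤ :=
    (Submodule.top_ne_ideal_smul_of_le_jacobson_annihilator
      (IsLocalRing.maximalIdeal_le_jacobson _)).symm
  rw [if_neg hne] at hd
  have hne' : maximalIdeal A • (⊤ : Submodule A A) ≠ ⊤ := by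
    rw [smul_eq_mul, Ideal.mul_top]
    exact (maximalIdeal.isMaximal A).ne_top
  unfold LocCoh.depth LocCoh.idealDepth
  rw [if_neg hne']
  refine hd.trans (iSup₂_le fun rs hrs => le_iSup₂_of_le rs ⟨?_, hrs.2⟩ le_rfl)
  have h0 := (S5182.result A J hJ (fun k => by haveI := hgr k; infer_instance) rs hrs.1 0).1
  let e : ↥(J ^ 0) ≃ₗ[A] A := (LinearEquiv.ofEq (J ^ 0 : Submodule A A) ⊤ (by rw [pow_zero, Ideal.one_eq_top])).trans
    Submodule.topEquiv
  exact (e.isWeaklyRegular_congr rs).1 h0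

end Groth.Agent.GrLib8.NFlatPunct
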