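import Groth.Agent.Synt29.ModSysPush
import Groth.Agent.Lib.NegVanClosed
import Groth.Agent.H23.MultCM
import Groth.Agent.QCoh.Stalk
import Groth.Agent.Algz7.Canon2.Stalk
import Groth.Prelude.Def_LefX

/-!
# Stalks of the levels of a levelwise finite locally free system
-/

set_option autoImplicit false
set_option linter.style.haveILetI false
set_option linter.unusedSectionVars false
set_option backward.isDefEq.respectTransparency false
set_option backward.isDefEq.respectTransparency.types false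
set_option maxHeartbeats 1000000

universe u

open CategoryTheory AlgebraicGeometry Opposite TopologicalSpace
open Groth.Agent Groth.Agent.Synt29

noncomputable section

namespace Groth.Agent.GrLib8.NFlatPunct

variable {A : Type u} [CommRing A] (I : Ideal A) {X : Scheme.{u}} [X.Over (Spec (CommRingCat.of A))]
  (𝓚 : X.IdealSheafData) (h𝓚 : 𝓚 = (FSch.idealSpec A I).comap (X ↘ Spec (CommRingCat.of A)))
  (𝔐 : FSch.ModSys (FSch.completionAlong X 𝓚))

include h𝓚 in
theorem stalkIdeal_sheaf (k : ℕ) (y : X) :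
    IntMult.stalkIdeal (𝓚 ^ k) y = Algz.stalkIdeal I y ^ k := by
  obtain ⟨_, ⟨U, hU, rfl⟩, hyU, -⟩ :=
    X.isBasis_affineOpens.exists_subset_of_mem_open (Set.mem_univ y) isOpen_univ
  rw [H23.MultCM.stalkIdeal_eq (𝓚 ^ k) ⟨U, hU⟩ hyU, H26.FMod.ideal_pow_eq_map I 𝓚 h𝓚, Algz.stalkIdeal, ← Ideal.map_pow,
    Ideal.map_map]
  refine congrArg (fun r => Ideal.map r (I ^ k)) (RingHom.ext fun a => ?_)
  exact X.presheaf.germ_res_apply (homOfLE le_top) y hyU (Coh.toGlobal (X ↘ Spec (CommRingCat.of A)) a)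

include h𝓚 in
/-- The stalks of the levels are free over the stalks of the thickenings. -/
theorem exists_stalk_model (h : LefX.LevelwiseFinLocFree 𝔐) (hcoh : 𝔐.IsCoh) (k : ℕ) (y : X) :
    ∃ r : ℕ, Nonempty ((ModSysPush.push 𝓚 𝔐 k).presheaf.stalk y ≃ₗ[X.presheaf.stalk y]
      (Fin r → X.presheaf.stalk y ⧸ Algz.stalkIdeal I y ^ (k + 1))) := by
  classical
  let g := FSch.completionToX X 𝓚 k
  by_cases hy : y ∈ Set.range g
  · obtain ⟨z, rfl⟩ := hy
    let O := X.presheaf.stalk (g z)
    let O' := ((FSch.completionAlong X 𝓚).X k).presheaf.stalk z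
    let M := (𝔐.F k).presheaf.stalk z
    letI : Algebra O O' := (g.stalkMap z).hom.toAlgebra
    letI : Module O M := Module.compHom M (g.stalkMap z).hom
    haveI : IsScalarTower O O' M := IsScalarTower.of_algebraMap_smul fun _ _ => rfl
    haveI : Module.Free O' M := QCoh.free_stalk_of_isFinLocFree (h k) z
    haveI : Module.Finite O' M := QCoh.finite_stalk_of_isFT (hcoh k).1 (hcoh k).2 z
    obtain ⟨e⟩ := NegVanClosed.nonempty_stalk_push_equiv g (𝔐.F k) z
    let b := Module.finBasis O' M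
    have hker : RingHom.ker (algebraMap O O') = Algz.stalkIdeal I (g z) ^ (k + 1) :=
      (H23.MultCM.ker_stalkMap_subschemeι (𝓚 ^ (k + 1)) z).trans (stalkIdeal_sheaf I 𝓚 h𝓚 (k + 1) (g z))
    let q : (O ⧸ Algz.stalkIdeal I (g z) ^ (k + 1)) ≃ₗ[O] O' :=
      ((Submodule.quotEquivOfEq _ (LinearMap.ker (Algebra.linearMap O O')) hker.symm).trans
        ((Algebra.linearMap O O').quotKerEquivOfSurjective (g.stalkMap_surjective z)))
    exact ⟨_, ⟨e.trans ((b.equivFun.restrictScalars O).trans (LinearEquiv.piCongrRight fun _ => q.symm))⟩⟩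
  · haveI := H23.ClosedPushLen.subsingleton_stalk g (𝔐.F k) hy
    haveI : Subsingleton ((ModSysPush.push 𝓚 𝔐 k).presheaf.stalk y) := this
    exact ⟨0, ⟨LinearEquiv.ofSubsingleton _ _⟩⟩

end Groth.Agent.GrLib8.NFlatPunct
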