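import Groth.Agent.GrLib8.NFlatPunct.Loc
import Groth.Agent.GrLib8.NFlatPunct.Mon
import Groth.Agent.GrLib8.NFlatPunct.StalkModel
import Groth.Agent.GrLib8.NFlatPunct.FinCoh
import Groth.Agent.GrLib8.NFlatPunct.Ring
import Groth.Agent.GrLib8.PuncturedLC
import Groth.Agent.Algz7.Canon2.Main
import Groth.Agent.Algz7.Algebraize
import Groth.Agent.Algz7.Extend
import Groth.Agent.Synt29.FormalHHReg
import Groth.Prelude.Def_FEt
import Groth.Agent.H28.PushLocFree

/-!
# Algebraization of levelwise free systems along a normally flat ideal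
-/

set_option autoImplicit false
set_option linter.style.haveILetI false
set_option linter.unusedSectionVars false
set_option backward.isDefEq.respectTransparency false
set_option backward.isDefEq.respectTransparency.types false
set_option maxHeartbeats 2000000

universe u

open CategoryTheory CategoryTheory.Limits AlgebraicGeometry Opposite TopologicalSpace
open Groth.Agent Groth.Agent.LocCohDepth.Punct Groth.Agent.Synt29

noncomputable section

namespace Groth.Agent.GrLib8.NFlatPunct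

theorem isCoh_of_levelwise {A : Type u} [CommRing A] [IsNoetherianRing A] {U : (Spec (CommRingCat.of A)).Opens}
    {𝓚 : (U : Scheme.{u}).IdealSheafData} {𝔐 : FSch.ModSys (FSch.completionAlong (U : Scheme.{u}) 𝓚)}
    (h : LefX.LevelwiseFinLocFree 𝔐) : 𝔐.IsCoh := fun k =>
  H28.PushLocFree.isCoh_of_isFinLocFree (h k)

/-- The first level of a levelwise free system is, off `V(I)`, a summand of a free `A / J`-module. -/
theorem summandOff_level_zero {A : Type u} [CommRing A] [IsNoetherianRing A] (I J : Ideal A)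
    (𝓚 : (LocCoh.puncturedOpen A I : Scheme.{u}).IdealSheafData)
    (h𝓚 : 𝓚 = (FSch.idealSpec A J).comap ((LocCoh.puncturedOpen A I : Scheme.{u}) ↘ Spec (CommRingCat.of A)))
    (𝔐 : FSch.ModSys (FSch.completionAlong (LocCoh.puncturedOpen A I : Scheme.{u}) 𝓚))
    (h : LefX.LevelwiseFinLocFree 𝔐) (hcoh : 𝔐.IsCoh) (N : Type u) [AddCommGroup N] [Module A N] [Module.Finite A N]
    (e : ModSysPush.push 𝓚 𝔐 0 ≅ (G (LocCoh.puncturedOpen A I)).obj (ModuleCat.of A N)) :
    FinCoh.SummandOff I (A ⧸ J) N := by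
  refine summandOff_of_localizations I J N fun p hp hI => ?_
  let y : (LocCoh.puncturedOpen A I : Scheme.{u}) := ⟨⟨p, hp⟩, hI⟩
  let O := (LocCoh.puncturedOpen A I : Scheme.{u}).presheaf.stalk y
  letI : Algebra A O := (Algz.toStalk A (LocCoh.puncturedOpen A I : Scheme.{u}) y).toAlgebra
  haveI hloc : IsLocalization.AtPrime O p := isLocalization_toStalk (LocCoh.puncturedOpen A I) y
  letI : Module A ((ModSysPush.push 𝓚 𝔐 0).presheaf.stalk y) :=
    Module.compHom _ (Algz.toStalk A (LocCoh.puncturedOpen A I : Scheme.{u}) y)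
  obtain ⟨gN, hgN⟩ := exists_toStalk_G (R := CommRingCat.of A) (LocCoh.puncturedOpen A I) (ModuleCat.of A N) e y
  haveI : IsScalarTower A O ((ModSysPush.push 𝓚 𝔐 0).presheaf.stalk y) :=
    IsScalarTower.of_algebraMap_smul fun _ _ => rfl
  obtain ⟨r, hr⟩ := exists_stalk_model J 𝓚 h𝓚 𝔐 h hcoh 0 y
  rw [show Algz.stalkIdeal J y ^ (0 + 1) = J.map (algebraMap A O) from pow_one _] at hr
  obtain ⟨μ⟩ := hr
  let qm : A ⧸ J →ₗ[A] O ⧸ J.map (algebraMap A O) :=
    Submodule.mapQ J ((J.map (algebraMap A O)).restrictScalars A) (Algebra.linearMap A O)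
      fun a ha => Ideal.mem_map_of_mem _ ha
  let ψ : (Fin r → A ⧸ J) →ₗ[A] (Fin r → O ⧸ J.map (algebraMap A O)) :=
    LinearMap.pi fun i => qm ∘ₗ LinearMap.proj i
  haveI hψ : IsLocalizedModule p.primeCompl ψ := isLocalizedModule_pi_quot p.primeCompl J r ψ fun v i a hv => by
    show qm (v i) = _
    rw [hv]
    rfl
  let gF := (μ.symm.restrictScalars A).toLinearMap ∘ₗ ψ
  haveI : IsLocalizedModule p.primeCompl gF := IsLocalizedModule.of_linearEquiv p.primeCompl ψ (μ.symm.restrictScalars A)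
  haveI : IsLocalizedModule p.primeCompl gN := hgN
  obtain ⟨u, hu, s, t, hst⟩ := exists_factor_of_common_localization p.primeCompl gN gF
  exact ⟨u, hu, r, s, t, hst⟩

/-- Algebraization on a punctured spectrum along a normally flat ideal of depth at least three. -/
theorem exists_completionMod {A : Type u} [CommRing A] [IsNoetherianRing A] [IsLocalRing A] (J : Ideal A)
    [IsLocalRing (A ⧸ J)]
    (hgr : ∀ n : ℕ, Module.Free (A ⧸ J) (↥(J ^ n) ⧸ (J • (⊤ : Submodule A ↥(J ^ n)))))
    (hd : (3 : ℕ∞) ≤ LocCoh.depth (A ⧸ J) (A ⧸ J)) [IsAdicComplete J A]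
    (U : (Spec (CommRingCat.of A)).Opens) (hU : U = LocCoh.puncturedOpen A (IsLocalRing.maximalIdeal A))
    (𝔐 : FSch.ModSys (FSch.completionAlong (U : Scheme.{u}) ((Spec.map (CommRingCat.ofHom (Ideal.Quotient.mk J))).ker.comap U.ι)))
    (h : LefX.LevelwiseFinLocFree 𝔐) :
    ∃ F : (U : Scheme.{u}).Modules, Coh.IsCoh F ∧
      Nonempty (FSch.completionMod ((Spec.map (CommRingCat.ofHom (Ideal.Quotient.mk J))).ker.comap U.ι) F ≅ 𝔐) := by
  subst hU
  haveI : IsNoetherianRing (CommRingCat.of A) := inferInstanceAs (IsNoetherianRing A)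
  let m := IsLocalRing.maximalIdeal A
  let 𝓚 := (Spec.map (CommRingCat.ofHom (Ideal.Quotient.mk J))).ker.comap (LocCoh.puncturedOpen A m).ι
  have h𝓚 : 𝓚 = (FSch.idealSpec A J).comap
      ((LocCoh.puncturedOpen A m : Scheme.{u}) ↘ Spec (CommRingCat.of A)) := rfl
  have hcoh := isCoh_of_levelwise h
  let Gs := ModSysPush.sys 𝓚 𝔐
  have hG := ModSysPush.isCohFormal_sys J 𝓚 h𝓚 𝔐 hcoh
  -- finiteness of the cohomology of the first level
  have hH : ∀ j, j ≤ 1 → Module.Finite A
      (Coh.HH (LocCoh.puncturedOpen A m : Scheme.{u}) (Gs.obj (op 0)) j) := by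
    obtain ⟨N₀, _, _, _, ⟨e⟩⟩ := GrLib8.PuncturedLC.exists_finite m (Gs.obj (op 0)) (hG.1 0)
    let N : ModuleCat.{u} (CommRingCat.of A) := ModuleCat.of (CommRingCat.of A) N₀
    haveI : Module.Finite A N := inferInstanceAs (Module.Finite A N₀)
    have hS := summandOff_level_zero m J 𝓚 h𝓚 𝔐 h hcoh N₀ e
    have hdA : ((3 : ℕ) : ℕ∞) ≤ LocCoh.idealDepth m (A ⧸ J) := by
      rw [← Alg6.depth_eq_of_semilinear (M := A ⧸ J) (Ideal.Quotient.mk J) Ideal.Quotient.mk_surjective
        (AddEquiv.refl _) (fun r x => Algebra.smul_def r x)] at hd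
      exact hd
    have hvan := (LC.le_idealDepth_iff_H m (A ⧸ J) 3).1 hdA
    intro j hj
    haveI := FormalHHReg.finite_HH m N j (by
      rcases j with _ | _ | j
      · exact FinCoh.finite_H1 (hvan 1 (by omega)) N₀ hS
      · exact FinCoh.finite_H2 (hvan 1 (by omega)) (hvan 2 (by omega)) N₀ hS
      · omega)
    exact Module.Finite.equiv (GrLib8.PuncturedLC.mapEquiv e.symm j)
  -- monomial bases of the graded pieces
  obtain ⟨k, a, ha⟩ := Submodule.fg_iff_exists_fin_generating_family.1 (IsNoetherian.noetherian J)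
  choose S hS1 hS2 using fun n => exists_monomial_basis_of_free J a ha (n + 1) (hgr (n + 1))
  have hcan : Algz.CanonicallyExtends A J (LocCoh.puncturedOpen A m) Gs := by
    refine Algz7.Canon2.canonicallyExtends_of_hatStalk (LocCoh.puncturedOpen A m) J hG a
      (fun i => ha ▸ Ideal.subset_span (Set.mem_range_self i)) S (fun y _ n => ?_) (hH 0 (by omega)) (hH 1 le_rfl)
    obtain ⟨π, hπ, -⟩ := Algz7.Canon2.exists_hatStalk_proj hG y
    obtain ⟨r, ⟨μ⟩⟩ := exists_stalk_model J 𝓚 h𝓚 𝔐 h hcoh (n + 1) y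
    letI : Algebra A ((LocCoh.puncturedOpen A m : Scheme.{u}).presheaf.stalk y) :=
      (Algz.toStalk A (LocCoh.puncturedOpen A m : Scheme.{u}) y).toAlgebra
    haveI := isLocalization_toStalk (LocCoh.puncturedOpen A m) y
    exact conditions_of_model J ((LocCoh.puncturedOpen A m).ι.base y).asIdeal.primeCompl a (S n) (hS1 n) (hS2 n)
      (Algz.stalkIdeal J y) rfl (π (n + 1)) (hπ (n + 1)).1 (hπ (n + 1)).2 μ
  obtain ⟨F, hF, ⟨β⟩⟩ := Algz7.exists_completion_iso_of_extends _ Gs
    (Algz7.extends_of_canonicallyExtends _ _ Gs hG hcan)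
  exact ⟨F, hF, ModSysPush.nonempty_iso_completionMod J 𝓚 h𝓚 𝔐 hF β⟩

end Groth.Agent.GrLib8.NFlatPunct
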