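import Groth.Agent.AssLib.OpenRestrict
import Groth.Agent.LocCohDepth.PuncturedKill
import Groth.Agent.Algz7.Canon2.Stalk
import Groth.Agent.GrLib8.NFlatPunct.FinCoh

/-!
# Stalks of `N~|_U` as localizations
-/

set_option autoImplicit false
set_option linter.style.haveILetI false
set_option linter.unusedSectionVars false
set_option backward.isDefEq.respectTransparency false
set_option backward.isDefEq.respectTransparency.types false
set_option maxHeartbeats 1000000

universe u

open CategoryTheory AlgebraicGeometry Opposite TopologicalSpace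
open Groth.Agent Groth.Agent.LocCohDepth.Punct

noncomputable section

namespace Groth.Agent.GrLib8.NFlatPunct

variable {A : Type u} [CommRing A]

theorem toStalk_eq (U : (Spec (CommRingCat.of A)).Opens) (y : (U : Scheme.{u})) (a : A) :
    Algz.toStalk A (U : Scheme.{u}) y a =
      U.ι.stalkMap y ((Spec (CommRingCat.of A)).presheaf.germ ⊤ (U.ι.base y) trivial
        ((Scheme.ΓSpecIso (CommRingCat.of A)).inv a)) := by
  refine Eq.trans ?_ (Scheme.Hom.germ_stalkMap_apply U.ι ⊤ y trivial _).symm
  rfl

theorem isLocalization_toStalk (U : (Spec (CommRingCat.of A)).Opens) (y : (U : Scheme.{u})) :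
    letI : Algebra A ((U : Scheme.{u}).presheaf.stalk y) := (Algz.toStalk A (U : Scheme.{u}) y).toAlgebra
    IsLocalization.AtPrime ((U : Scheme.{u}).presheaf.stalk y) (U.ι.base y).asIdeal := by
  let q : PrimeSpectrum.Top A := U.ι.base y
  letI : Algebra A ((Spec (CommRingCat.of A)).presheaf.stalk q) := StructureSheaf.stalkAlgebra A q
  haveI : IsLocalization.AtPrime ((Spec (CommRingCat.of A)).presheaf.stalk q) q.asIdeal :=
    StructureSheaf.IsLocalization.to_stalk A q
  letI : Algebra A ((U : Scheme.{u}).presheaf.stalk y) := (Algz.toStalk A (U : Scheme.{u}) y).toAlgebra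
  exact IsLocalization.isLocalization_of_algEquiv q.asIdeal.primeCompl
    (S := (Spec (CommRingCat.of A)).presheaf.stalk q)
    { RingEquiv.ofBijective (U.ι.stalkMap y).hom (ConcreteCategory.bijective_of_isIso (U.ι.stalkMap y)) with
      commutes' := fun a => (toStalk_eq U y a).symm }

/-- The stalks of `N~|_U` are the localizations of `N`. -/
theorem exists_toStalk_G {R : CommRingCat.{u}} (U : (Spec R).Opens) (N : ModuleCat.{u} R)
    {F : (U : Scheme.{u}).Modules} (e : F ≅ (G U).obj N) (y : (U : Scheme.{u})) :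
    letI : Module R (F.presheaf.stalk y) := Module.compHom _ (Algz.toStalk (R : Type u) (U : Scheme.{u}) y)
    ∃ g : N →ₗ[R] F.presheaf.stalk y, IsLocalizedModule (U.ι.base y).asIdeal.primeCompl g := by
  letI : Module R (F.presheaf.stalk y) := Module.compHom _ (Algz.toStalk (R : Type u) (U : Scheme.{u}) y)
  let q : PrimeSpectrum.Top R := U.ι.base y
  letI : Algebra R ((Spec R).presheaf.stalk q) := StructureSheaf.stalkAlgebra R q
  haveI : IsScalarTower R ((Spec R).presheaf.stalk q) ((tilde N).presheaf.stalk q) :=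
    IsScalarTower.of_algebraMap_smul fun _ _ => rfl
  obtain ⟨ε, hε⟩ := AssLib.exists_semilinear_restrict U.ι (tilde N) y
  haveI : Mono e.hom := inferInstance
  haveI : Epi e.hom := inferInstance
  let η := LinearEquiv.ofBijective (Algz.stalkMapₗ e.hom y)
    ⟨Algz7.Canon2.stalk_injective e.hom y, Algz7.Canon2.stalk_surjective e.hom y⟩
  let j : (tilde N).presheaf.stalk q ≃+ F.presheaf.stalk y := ε.symm.trans η.symm.toAddEquiv
  let j' : (tilde N).presheaf.stalk q ≃ₗ[R] F.presheaf.stalk y :=
    { j with
      map_smul' := fun a z => by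
        show η.symm (ε.symm (a • z)) = Algz.toStalk (R : Type u) (U : Scheme.{u}) y a • η.symm (ε.symm z)
        rw [← map_smul η.symm]
        refine congrArg η.symm (ε.injective ?_)
        rw [AddEquiv.apply_symm_apply]
        refine Eq.trans ?_ (congrArg (fun w => ε (w • ε.symm z)) (toStalk_eq (A := R) U y a)).symm
        rw [hε, AddEquiv.apply_symm_apply]
        exact (algebraMap_smul ((Spec R).presheaf.stalk q) a z).symm }
  exact ⟨j'.toLinearMap ∘ₗ (tilde.toStalk N q).hom,
    IsLocalizedModule.of_linearEquiv q.asIdeal.primeCompl (tilde.toStalk N q).hom j'⟩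

/-- Powers of a quotient localize to powers of the quotient. -/
theorem isLocalizedModule_pi_quot {O : Type u} [CommRing O] [Algebra A O] (T : Submonoid A) [IsLocalization T O]
    (J : Ideal A) (r : ℕ) (ψ : (Fin r → A ⧸ J) →ₗ[A] (Fin r → O ⧸ J.map (algebraMap A O)))
    (hψ : ∀ v i a, v i = Ideal.Quotient.mk J a → ψ v i = Ideal.Quotient.mk _ (algebraMap A O a)) :
    IsLocalizedModule T ψ := by
  classical
  refine ⟨fun t => ?_, fun w => ?_, fun {v v'} h => ?_⟩
  · rw [Module.End.isUnit_iff]
    obtain ⟨c, hc⟩ := (IsLocalization.map_units O t).exists_left_inv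
    have key : ∀ w : Fin r → O ⧸ J.map (algebraMap A O), (t : A) • w = algebraMap A O (t : A) • w := fun w =>
      (algebraMap_smul O (t : A) w).symm
    refine Function.bijective_iff_has_inverse.2 ⟨fun w => c • w, fun w => ?_, fun w => ?_⟩
    · show c • ((t : A) • w) = w
      rw [key, smul_smul, hc, one_smul]
    · show (t : A) • (c • w) = w
      rw [key, smul_smul, mul_comm, hc, one_smul]
  · choose c hc using fun i => Ideal.Quotient.mk_surjective (w i)
    obtain ⟨t, ht⟩ := IsLocalization.exist_integer_multiples_of_finite T c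
    choose d hd using ht
    refine ⟨⟨fun i => Ideal.Quotient.mk J (d i), t⟩, funext fun i => ?_⟩
    rw [hψ _ i (d i) rfl, hd i, Pi.smul_apply, ← hc i]
    rfl
  · choose a ha using fun i => Ideal.Quotient.mk_surjective (v i)
    choose a' ha' using fun i => Ideal.Quotient.mk_surjective (v' i)
    have h1 : ∀ i, ∃ s : T, (s : A) * (a i - a' i) ∈ J := fun i => by
      have h2 := congrFun h i
      rw [hψ v i (a i) (ha i).symm, hψ v' i (a' i) (ha' i).symm, Ideal.Quotient.eq, ← map_sub,
        IsLocalization.algebraMap_mem_map_algebraMap_iff T] at h2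
      obtain ⟨s, hs, hsm⟩ := h2
      exact ⟨⟨s, hs⟩, hsm⟩
    choose s hs using h1
    refine ⟨∏ i, s i, funext fun i => ?_⟩
    simp only [Pi.smul_apply, ← ha i, ← ha' i, Submonoid.smul_def, Submonoid.coe_finsetProd]
    show Ideal.Quotient.mk J ((∏ j, (s j : A)) * a i) = Ideal.Quotient.mk J ((∏ j, (s j : A)) * a' i)
    rw [Ideal.Quotient.eq, ← mul_sub, ← Finset.prod_erase_mul _ _ (Finset.mem_univ i), mul_assoc]
    exact Ideal.mul_mem_left _ _ (hs i)

/-- A module with the same localizations as powers of `A / J` is a summand of them off `V(I)`. -/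
theorem summandOff_of_localizations [IsNoetherianRing A] (I J : Ideal A) (N : Type u) [AddCommGroup N] [Module A N]
    [Module.Finite A N]
    (h : ∀ p : Ideal A, p.IsPrime → ¬ I ≤ p → ∃ u ∉ p, ∃ (r : ℕ) (s : N →ₗ[A] (Fin r → A ⧸ J))
      (t : (Fin r → A ⧸ J) →ₗ[A] N), ∀ x, t (s x) = u • x) :
    FinCoh.SummandOff I (A ⧸ J) N := by
  let C : Set A := {f | ∃ (r : ℕ) (s : N →ₗ[A] (Fin r → A ⧸ J)) (t : (Fin r → A ⧸ J) →ₗ[A] N),
    ∀ x, t (s x) = f • x}
  let 𝔉 : Ideal A :=
    { carrier := C
      zero_mem' := ⟨0, 0, 0, fun x => by rw [LinearMap.zero_apply, zero_smul]⟩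
      add_mem' := by
        rintro f f' ⟨r, s, t, hst⟩ ⟨r', s', t', hst'⟩
        let E : ((Fin r → A ⧸ J) × (Fin r' → A ⧸ J)) ≃ₗ[A] (Fin (r + r') → A ⧸ J) :=
          ((LinearEquiv.sumArrowLequivProdArrow (Fin r) (Fin r') A (A ⧸ J)).symm).trans
            (LinearEquiv.funCongrLeft A (A ⧸ J) finSumFinEquiv.symm)
        refine ⟨r + r', E.toLinearMap ∘ₗ s.prod s', t.coprod t' ∘ₗ E.symm.toLinearMap, fun x => ?_⟩
        simp [add_smul, hst, hst']
      smul_mem' := by
        rintro c f ⟨r, s, t, hst⟩
        exact ⟨r, s, c • t, fun x => by rw [LinearMap.smul_apply, hst, smul_smul, smul_eq_mul]⟩ }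
  intro a ha
  have hrad : a ∈ 𝔉.radical := by
    rw [Ideal.radical_eq_sInf, Ideal.mem_sInf]
    rintro p ⟨hle, hp⟩
    by_contra hap
    obtain ⟨u, hu, hu'⟩ := h p hp fun hI => hap (hI ha)
    exact hu (hle hu')
  obtain ⟨e, r, s, t, hst⟩ := hrad
  exact ⟨e, r, s, t, hst⟩

/-- Two finite modules with a common localization are summands of each other near the point. -/
theorem exists_factor_of_common_localization [IsNoetherianRing A] (T : Submonoid A) {N F L : Type u}
    [AddCommGroup N] [Module A N] [Module.Finite A N] [AddCommGroup F] [Module A F] [Module.Finite A F]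
    [AddCommGroup L] [Module A L] (gN : N →ₗ[A] L) (gF : F →ₗ[A] L) [IsLocalizedModule T gN]
    [IsLocalizedModule T gF] :
    ∃ u ∈ T, ∃ (s : N →ₗ[A] F) (t : F →ₗ[A] N), ∀ x, t (s x) = u • x := by
  haveI := Module.finitePresentation_of_finite A N
  haveI := Module.finitePresentation_of_finite A F
  obtain ⟨s, a, hs⟩ := Module.FinitePresentation.exists_lift_of_isLocalizedModule T gF gN
  obtain ⟨t, b, ht⟩ := Module.FinitePresentation.exists_lift_of_isLocalizedModule T gN gF
  have h : gN ∘ₗ (t ∘ₗ s) = gN ∘ₗ (((b * a : T) : A) • LinearMap.id) := by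
    refine LinearMap.ext fun x => ?_
    have h1 := LinearMap.congr_fun ht (s x)
    have h2 := LinearMap.congr_fun hs x
    simp only [LinearMap.comp_apply, LinearMap.smul_apply, Submonoid.smul_def] at h1 h2 ⊢
    rw [h1, h2, smul_smul, map_smul]
    rfl
  obtain ⟨c, hc⟩ := Module.Finite.exists_smul_of_comp_eq_of_isLocalizedModule T gN _ _ h
  refine ⟨(c : A) * ((b * a : T) : A), mul_mem c.2 (b * a).2, s, (c : A) • t, fun x => ?_⟩
  have := LinearMap.congr_fun hc x
  simp only [LinearMap.comp_apply, LinearMap.smul_apply, Submonoid.smul_def, LinearMap.id_apply] at this ⊢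
  rw [this, smul_smul]

end Groth.Agent.GrLib8.NFlatPunct
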