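import Groth.Agent.GrLib8.NFlatPunct.Core
import Groth.Agent.GrLib8.NFlatPunct.Ring
import Groth.Agent.SGA11.Pic
import Groth.Agent.Pi1X.FEtGlobal
import Groth.Agent.ParaFX.Ufd
import Groth.Agent.FComplLib.Spf
import Groth.Agent.GrLib8.PuncturedLC
import Groth.Agent.Synt29.FormalSectO
import Groth.Agent.QCoh.HHExact
import Groth.Agent.QCoh.AffineCohom
import Groth.Agent.LC.PuncturedDim
import Groth.Prelude.Def_Formal2

/-!
# The punctured spectrum along a normally flat ideal
-/

noncomputable section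

set_option autoImplicit false
set_option linter.style.haveILetI false
set_option backward.isDefEq.respectTransparency false
set_option backward.isDefEq.respectTransparency.types false
set_option maxHeartbeats 800000

universe u

open CategoryTheory CategoryTheory.Limits AlgebraicGeometry TopologicalSpace Opposite IsLocalRing
open Groth.Agent Groth.Agent.H23

namespace Groth.Agent.GrLib8.NFlatPunct

section Punct

variable (R : Type u) [CommRing R] [IsLocalRing R] [IsNoetherianRing R]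

/-- `R → Γ(punctured spectrum)`. -/
abbrev glob : R →+* Γ((FEt.puncturedSpec R : Scheme.{u}), ⊤) :=
  ((Scheme.ΓSpecIso (CommRingCat.of R)).inv ≫ (FEt.puncturedSpec R).ι.appTop).hom

variable {R}

theorem appTop_bijective (h : (2 : ℕ∞) ≤ LocCoh.depth R R) : Function.Bijective (FEt.puncturedSpec R).ι.appTop :=
  Pi1X.appTop_bijective_of_depth (FEt.puncturedSpec R).ι fun w hw => by
    rw [Scheme.Opens.range_ι] at hw
    have hw' : w = closedPoint R := not_not.1 hw
    subst hw'
    let σ : R ≃+* (Spec (CommRingCat.of R)).presheaf.stalk (closedPoint R) :=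
      (IsLocalization.atUnits R (closedPoint R).asIdeal.primeCompl
        (S := Localization.AtPrime (closedPoint R).asIdeal)
        fun x hx => IsLocalRing.notMem_maximalIdeal.1 hx).toRingEquiv.trans
        (StructureSheaf.stalkIso R (closedPoint R)).toRingEquiv
    rw [← Alg6.depth_eq_of_semilinear σ.toRingHom σ.surjective σ.toAddEquiv (fun r z => map_mul σ r z)]
    exact h

theorem glob_bijective (h : (2 : ℕ∞) ≤ LocCoh.depth R R) : Function.Bijective (glob R) :=
  (appTop_bijective h).comp (ConcreteCategory.bijective_of_isIso (Scheme.ΓSpecIso (CommRingCat.of R)).inv)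

theorem connected_punctured (h : (2 : ℕ∞) ≤ LocCoh.depth R R) : ConnectedSpace ↥(FEt.puncturedSpec R) := by
  have hne : Nonempty (FEt.puncturedSpec R : Scheme.{u}) := by
    by_contra hemp
    haveI : IsEmpty (FEt.puncturedSpec R : Scheme.{u}) := not_nonempty_iff.1 hemp
    haveI : Subsingleton Γ((FEt.puncturedSpec R : Scheme.{u}), ⊤) := inferInstance
    exact zero_ne_one ((glob_bijective h).1 (Subsingleton.elim (glob R 0) (glob R 1)))
  haveI : PreconnectedSpace (Spec (CommRingCat.of R)) := ⟨LC.preconnected_spec (A := R)⟩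
  rw [connectedSpace_iff_clopen]
  refine ⟨hne, fun s hs => ?_⟩
  obtain ⟨G, hG, rfl⟩ := Pi1X.exists_isClopen_preimage (FEt.puncturedSpec R).ι (appTop_bijective h) s hs
  rcases isClopen_iff.1 hG with rfl | rfl
  · exact .inl Set.preimage_empty
  · exact .inr Set.preimage_univ

theorem subsingleton_HH_one (h : (3 : ℕ∞) ≤ LocCoh.depth R R) :
    Subsingleton (Coh.HH (FEt.puncturedSpec R : Scheme.{u})
      (Coh.structureModule (FEt.puncturedSpec R : Scheme.{u})) 1) := by
  have hU : FEt.puncturedSpec R = LocCoh.puncturedOpen R (maximalIdeal R) := by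
    refine Opens.ext (Set.ext fun p => not_congr ?_)
    exact ⟨fun hp => (congrArg PrimeSpectrum.asIdeal (Set.mem_singleton_iff.1 hp)).ge,
      fun hp => Set.mem_singleton_iff.2 (PrimeSpectrum.ext ((maximalIdeal.isMaximal R).eq_of_le p.isPrime.ne_top hp).symm)⟩
  rw [hU]
  let M := ModuleCat.of (CommRingCat.of R) R
  obtain ⟨u⟩ := Synt29.FormalSectO.exists_unitIso (A := R) (LocCoh.puncturedOpen R (maximalIdeal R))
  obtain ⟨e⟩ := GrLib8.PuncturedLC.nonempty_HH_succ (maximalIdeal R) 0 M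
  unfold LocCoh.depth at h
  haveI h2 : Subsingleton ((localCohomology (maximalIdeal R) 2).obj (ModuleCat.of R R)) :=
    (LC.le_idealDepth_iff_H (maximalIdeal R) R 3).1 h 2 (by omega)
  exact QCoh.subsingleton_HH_of_iso u.symm 1 (@Equiv.subsingleton _ _ e.toEquiv h2)

end Punct

variable {A : Type u} [CommRing A] [IsLocalRing A] [IsNoetherianRing A] (J : Ideal A)

/-- The ideal of `V(J)` in the punctured spectrum. -/
abbrev jIdeal : (FEt.puncturedSpec A : Scheme.{u}).IdealSheafData :=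
  (Spec.map (CommRingCat.ofHom (Ideal.Quotient.mk J))).ker.comap (FEt.puncturedSpec A).ι

omit [IsNoetherianRing A] in
theorem jIdeal_pow (n : ℕ) : jIdeal J ^ (n + 1) =
    (Spec.map (CommRingCat.ofHom (Ideal.Quotient.mk (J ^ (n + 1))))).ker.comap (FEt.puncturedSpec A).ι := by
  rw [FComplLib.ker_specMap_eq_pow (Ideal.Quotient.mk (J ^ (n + 1))) (Ideal.Quotient.mk J)
    Ideal.Quotient.mk_surjective Ideal.Quotient.mk_surjective (n + 1) (by rw [Ideal.mk_ker, Ideal.mk_ker])]
  exact (FComplLib.comap_pow _ _ _).symm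

omit [IsNoetherianRing A] in
theorem exists_thick_iso (n : ℕ) [IsLocalRing (A ⧸ J ^ (n + 1))] :
    ∃ (ρ : (FEt.puncturedSpec (A ⧸ J ^ (n + 1)) : Scheme.{u}) ⟶ FEt.puncturedSpec A)
      (j : (FEt.puncturedSpec (A ⧸ J ^ (n + 1)) : Scheme.{u}) ≅ (jIdeal J ^ (n + 1)).subscheme),
      ρ ≫ (FEt.puncturedSpec A).ι =
        (FEt.puncturedSpec (A ⧸ J ^ (n + 1))).ι ≫ Spec.map (CommRingCat.ofHom (Ideal.Quotient.mk (J ^ (n + 1)))) ∧
      j.hom ≫ (jIdeal J ^ (n + 1)).subschemeι = ρ := by
  rw [jIdeal_pow]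
  exact SGA11.exists_iso_subscheme (J ^ (n + 1))

omit [IsNoetherianRing A] in
theorem isLocalRing_quot (hJ : J ≠ ⊤) (n : ℕ) : IsLocalRing (A ⧸ J ^ (n + 1)) := by
  haveI : Nontrivial (A ⧸ J ^ (n + 1)) := Ideal.Quotient.nontrivial_iff.2 fun h =>
    hJ (top_unique (h.ge.trans (Ideal.pow_le_self n.succ_ne_zero)))
  exact .of_surjective' (Ideal.Quotient.mk _) Ideal.Quotient.mk_surjective

variable {J} (hJ : J ≠ ⊤) [IsLocalRing (A ⧸ J)]
  (hgr : ∀ n : ℕ, Module.Free (A ⧸ J) (↥(J ^ n) ⧸ (J • (⊤ : Submodule A ↥(J ^ n)))))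
  (hd : (3 : ℕ∞) ≤ LocCoh.depth (A ⧸ J) (A ⧸ J))

include hJ hgr hd

theorem presented : Presented J (jIdeal J) (glob A) := by
  have hA : (2 : ℕ∞) ≤ LocCoh.depth A A :=
    le_trans (by norm_num) (le_depth_self hJ hgr (d := 3) hd)
  have key : ∀ n, ∃ e : A ⧸ J ^ (n + 1) →+* Γ((jIdeal J ^ (n + 1)).subscheme, ⊤), Function.Bijective e ∧
      ∀ a, e (Ideal.Quotient.mk _ a) = (jIdeal J ^ (n + 1)).subschemeι.app ⊤ (glob A a) := fun n => by
    haveI := isLocalRing_quot J hJ n
    obtain ⟨ρ, j, hρ, hj⟩ := exists_thick_iso J n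
    have hQ : (2 : ℕ∞) ≤ LocCoh.depth (A ⧸ J ^ (n + 1)) (A ⧸ J ^ (n + 1)) :=
      le_trans (by norm_num) (le_depth_quot_pow hgr (d := 3) hd n)
    refine ⟨j.inv.appTop.hom.comp (glob (A ⧸ J ^ (n + 1))),
      (ConcreteCategory.bijective_of_isIso j.inv.appTop).comp (glob_bijective hQ), fun a => ?_⟩
    have h1 : glob (A ⧸ J ^ (n + 1)) (Ideal.Quotient.mk _ a) = ρ.appTop (glob A a) := by
      have h2 := congrArg (fun g : _ ⟶ Spec (CommRingCat.of A) =>
        g.appTop ((Scheme.ΓSpecIso (CommRingCat.of A)).inv a)) hρ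
      refine Eq.trans ?_ h2.symm
      have h3 := congrArg (fun g => g.hom a)
        (Scheme.ΓSpecIso_inv_naturality (CommRingCat.ofHom (Ideal.Quotient.mk (J ^ (n + 1)))))
      exact congrArg (FEt.puncturedSpec (A ⧸ J ^ (n + 1))).ι.appTop h3
    show j.inv.appTop (glob _ (Ideal.Quotient.mk _ a)) = _
    rw [h1, ← hj, ← ConcreteCategory.comp_apply, ← Scheme.Hom.comp_appTop, Iso.inv_hom_id_assoc]
    rfl
  choose e he hea using key
  refine ⟨glob_bijective hA, fun n z => ?_, fun n a => ?_⟩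
  · obtain ⟨b, rfl⟩ := (he n).2 z
    obtain ⟨a, rfl⟩ := Ideal.Quotient.mk_surjective b
    exact ⟨a, (hea n a).symm⟩
  · rw [← hea, map_eq_zero_iff _ (he n).1, Ideal.Quotient.eq_zero_iff_mem]

theorem hb_all [IsAdicComplete J A] (D : (FEt.puncturedSpec A : Scheme.{u}).Modules)
    (hD : FlatMod.IsFinLocFree D) : Lef.HomToFormalBijective (jIdeal J) D := by
  haveI : IsNoetherian (Spec (CommRingCat.of A)) := inferInstance
  haveI : CompactSpace (FEt.puncturedSpec A : Scheme.{u}) :=
    isCompact_iff_compactSpace.mp (NoetherianSpace.isCompact _)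
  haveI : (FEt.puncturedSpec A : Scheme.{u}).IsQuasiAffine :=
    Scheme.IsQuasiAffine.of_isImmersion (FEt.puncturedSpec A).ι
  exact H26.LefFEt.hb_of_quasiAffine _ (presented hJ hgr hd).hb D (QCoh.isQCoh_of_isFinLocFree hD)

theorem connectedSpace_section : ConnectedSpace ↥(jIdeal J).subscheme := by
  haveI := isLocalRing_quot J hJ 0
  obtain ⟨ρ, j, -, -⟩ := exists_thick_iso J 0
  haveI : ConnectedSpace (FEt.puncturedSpec (A ⧸ J ^ (0 + 1)) : Scheme.{u}) := connected_punctured (R := A ⧸ J ^ (0 + 1)) (le_trans (by norm_num) (le_depth_quot_pow hgr (d := 3) hd 0))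
  have h := j.hom.homeomorph.surjective.connectedSpace j.hom.homeomorph.continuous
  rwa [show jIdeal J ^ (0 + 1) = jIdeal J from pow_one _] at h

theorem connectedSpace_punctured : ConnectedSpace ↥(FEt.puncturedSpec A) :=
  connected_punctured (le_trans (by norm_num) (le_depth_self hJ hgr (d := 3) hd))

theorem subsingleton_kernel (n : ℕ) : Subsingleton (Coh.HH (FEt.puncturedSpec A : Scheme.{u})
    (kernel (Lef.quotMap (Lef.pow_succ_le (jIdeal J) n))) 1) := by
  let I₂ := jIdeal J ^ (n + 2)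
  let q := Lef.quotMap (Lef.pow_succ_le (jIdeal J) n)
  haveI := CurvePoint.epi_toSubscheme (jIdeal J ^ (n + 1))
  haveI : Epi q := epi_of_epi_fac (H26.LefFEt.toSub_quotMap (Lef.pow_succ_le (jIdeal J) n))
  let S : ShortComplex (FEt.puncturedSpec A : Scheme.{u}).Modules :=
    ShortComplex.mk (kernel.ι q) q (kernel.condition q)
  have hS : S.ShortExact :=
    { exact := ShortComplex.exact_kernel q
      mono_f := inferInstanceAs (Mono (kernel.ι q))
      epi_g := inferInstanceAs (Epi q) }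
  have h2 : Subsingleton (Coh.HH (FEt.puncturedSpec A : Scheme.{u}) (ClSub.quotMod I₂) 1) := by
    haveI := isLocalRing_quot J hJ (n + 1)
    obtain ⟨ρ, j, -, -⟩ := exists_thick_iso J (n + 1)
    haveI h3 := subsingleton_HH_one (R := A ⧸ J ^ (n + 1 + 1)) (le_depth_quot_pow hgr (d := 3) hd (n + 1))
    obtain ⟨e1⟩ := QCoh.HH_push_of_isAffineHom j.inv (M := Coh.structureModule (jIdeal J ^ (n + 1 + 1)).subscheme)
      QCoh.isQCoh_structureModule 1
    haveI : IsIso (ClSub.unitToPush j.inv) := DivisorExt.isIso_unitToPush j.inv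
    have h4 := QCoh.subsingleton_HH_of_iso (asIso (ClSub.unitToPush j.inv)) 1 h3
    haveI h5 := @Equiv.subsingleton _ _ e1.toEquiv h4
    obtain ⟨e2⟩ := QCoh.HH_push_of_isAffineHom (jIdeal J ^ (n + 1 + 1)).subschemeι
      (M := Coh.structureModule (jIdeal J ^ (n + 1 + 1)).subscheme) QCoh.isQCoh_structureModule 1
    exact @Equiv.subsingleton _ _ e2.symm.toEquiv h5
  have hsurj : Function.Surjective (S.g.app ⊤) := fun z => by
    obtain ⟨a, ha⟩ := (presented hJ hgr hd).surj n z
    refine ⟨(jIdeal J ^ (n + 2)).subschemeι.app ⊤ (glob A a), ?_⟩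
    refine Eq.trans ?_ ha
    exact (quotMap_app_top (Lef.pow_succ_le (jIdeal J) n) _).trans (app_incl _)
  let T := S.map (QCoh.toAbFunctor (FEt.puncturedSpec A : Scheme.{u}))
  have hT : T.ShortExact := QCoh.toAb_shortExact hS
  refine subsingleton_of_forall_eq 0 fun x => ?_
  obtain ⟨y, hy⟩ := Abelian.Ext.covariant_sequence_exact₁ _ hT x (@Subsingleton.elim _ h2 _ _) (zero_add 1)
  obtain ⟨w, hw⟩ := hsurj (Sheaf.H.equiv₀ T.X₃ isTerminalTop y)
  have hyw : y = Sheaf.H.map T.g 0 ((Sheaf.H.equiv₀ T.X₂ isTerminalTop).symm w) := by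
    rw [Sheaf.H.equiv₀_symm_naturality]
    exact (AddEquiv.eq_symm_apply _).2 hw.symm
  have hyw' : y = ((Sheaf.H.equiv₀ T.X₂ isTerminalTop).symm w).comp (Abelian.Ext.mk₀ T.g) (add_zero 0) := hyw
  rw [← hy, hyw', Abelian.Ext.comp_assoc_of_second_deg_zero, hT.comp_extClass, Abelian.Ext.comp_zero]

/-- Restriction of invertible modules to the section is injective. -/
theorem pic_injective [IsAdicComplete J A] : Formal2.PicPullbackInjective (jIdeal J).subschemeι := by
  intro L hL ⟨eL⟩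
  let U := (FEt.puncturedSpec A : Scheme.{u})
  let T : U.Opens := ⊤
  let t : (T : Scheme.{u}) ⟶ U := T.ι
  haveI : IsIso t := inferInstanceAs (IsIso U.topIso.hom)
  have hT : ((jIdeal J).support : Set U) ⊆ (T : Set U) := fun _ _ => trivial
  have hP := (presented hJ hgr hd).comap t
  have hall : ∀ D : (T : Scheme.{u}).Modules, FlatMod.IsFinLocFree D →
      Lef.HomToFormalBijective ((jIdeal J).comap T.ι) D := fun D hD => by
    haveI : IsNoetherian (Spec (CommRingCat.of A)) := inferInstance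
    haveI : CompactSpace U := isCompact_iff_compactSpace.mp (NoetherianSpace.isCompact _)
    haveI : CompactSpace (T : Scheme.{u}) := t.homeomorph.symm.compactSpace
    haveI : (T : Scheme.{u}).IsQuasiAffine :=
      Scheme.IsQuasiAffine.of_isImmersion (t ≫ (FEt.puncturedSpec A).ι)
    exact H26.LefFEt.hb_of_quasiAffine _ hP.hb D (QCoh.isQCoh_of_isFinLocFree hD)
  let D := (Scheme.Modules.pullback t).obj L
  have hD : PicF.IsInvertible D := PicClLib.isInvertible_pullback t hL
  have e0 : ∀ (I : U.IdealSheafData), I = jIdeal J →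
      Nonempty ((Scheme.Modules.pullback I.subschemeι).obj L ≅ Coh.structureModule _) := by
    rintro I rfl; exact ⟨eL⟩
  obtain ⟨e1⟩ := e0 (jIdeal J ^ (0 + 1)) (pow_one _)
  let g := H26.LefPic.gMap (jIdeal J) T 0
  have hg : (((jIdeal J).comap T.ι) ^ (0 + 1)).subschemeι ≫ t = g ≫ (jIdeal J ^ (0 + 1)).subschemeι :=
    (H26.LefPic.gMap_subschemeι (jIdeal J) T 0).symm
  obtain ⟨o⟩ := PicClLib.nonempty_pullback_structureModule g
  let e2 : (Scheme.Modules.pullback (((jIdeal J).comap T.ι) ^ (0 + 1)).subschemeι).obj D ≅ Coh.structureModule _ :=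
    (Scheme.Modules.pullbackComp _ t).app L ≪≫ (Scheme.Modules.pullbackCongr hg).app L ≪≫
      ((Scheme.Modules.pullbackComp g _).app L).symm ≪≫ (Scheme.Modules.pullback g).mapIso e1 ≪≫ o
  have hH : ∀ n : ℕ, 0 ≤ n → _ := fun n _ => subsingleton_kernel hJ hgr hd n
  obtain ⟨z, hz, hz0⟩ := H26.LefPic.exists_formalGen (jIdeal J) T hT 0 hH hD
    (H26.LefPic.pullback_trivial_all (jIdeal J) T hT 0 hH hD 0 le_rfl e2)
  obtain ⟨e3⟩ := @nonempty_iso_of_formalGen _ ((jIdeal J).comap T.ι) hall _ hD z hz hz0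
  obtain ⟨o'⟩ := PicClLib.nonempty_pullback_structureModule (inv t)
  exact ⟨((Scheme.Modules.pullbackId U).app L).symm ≪≫
    (Scheme.Modules.pullbackCongr (IsIso.inv_hom_id t).symm).app L ≪≫
    ((Scheme.Modules.pullbackComp (inv t) t).app L).symm ≪≫ (Scheme.Modules.pullback (inv t)).mapIso e3 ≪≫ o'⟩

end Groth.Agent.GrLib8.NFlatPunct
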